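import Groth.Agent.GrpSchLib.TensorDomain
import Mathlib.RingTheory.Nilpotent.GeometricallyReduced
import Mathlib.FieldTheory.IsAlgClosed.AlgebraicClosure
import Mathlib.LinearAlgebra.TensorProduct.Basis
import Mathlib.RingTheory.TensorProduct.Free
import Mathlib.RingTheory.Localization.FractionRing
import Mathlib.RingTheory.Nilpotent.Lemmas

/-!
# Reduced tensor products
-/

set_option autoImplicit false

open TensorProduct

namespace Groth.Agent.FBaseLib

universe u

/-- `B ⊗ A` is reduced if `B` is reduced and `L ⊗ A` is reduced for all fields `L`. -/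
theorem isReduced_tensor_of_fields {k : Type u} [Field k] (A B : Type u) [CommRing A] [Algebra k A]
    [CommRing B] [Algebra k B] [IsReduced B]
    (h : ∀ (L : Type u) [Field L] [Algebra k L], IsReduced (L ⊗[k] A)) : IsReduced (B ⊗[k] A) := by
  refine ⟨fun x hx => ?_⟩
  let b := Module.Free.chooseBasis k A
  apply (Algebra.TensorProduct.basis B b).repr.injective
  ext i
  simp only [map_zero, Finsupp.zero_apply]
  suffices h' : ∀ p : Ideal B, p.IsPrime → (Algebra.TensorProduct.basis B b).repr x i ∈ p by
    have hn : (Algebra.TensorProduct.basis B b).repr x i ∈ nilradical B := by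
      rw [nilradical_eq_sInf, Ideal.mem_sInf]
      exact fun {p} hp => h' p hp
    exact IsReduced.eq_zero _ hn
  intro p hp
  let L := FractionRing (B ⧸ p)
  have := h L
  let f : B →ₐ[k] L := (IsScalarTower.toAlgHom k (B ⧸ p) L).comp (Ideal.Quotient.mkₐ k p)
  have h0 : Algebra.TensorProduct.map f (AlgHom.id k A) x = 0 := (hx.map _).eq_zero
  have h1 : ∀ y : B ⊗[k] A, (Algebra.TensorProduct.basis L b).repr
      (Algebra.TensorProduct.map f (AlgHom.id k A) y) i =
      f ((Algebra.TensorProduct.basis B b).repr y i) := by
    intro y
    induction y using TensorProduct.induction_on with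
    | zero => simp
    | tmul a c => simp [Algebra.smul_def, map_mul]
    | add y z hy hz => simp [hy, hz]
  have h2 := h1 x
  rw [h0, map_zero, Finsupp.zero_apply] at h2
  exact Ideal.Quotient.eq_zero_iff_mem.mp
    ((map_eq_zero_iff _ (IsFractionRing.injective (B ⧸ p) L)).mp h2.symm)

/-- Over an algebraically closed field a reduced algebra stays reduced over any field extension. -/
theorem isReduced_field_tensor_of_isAlgClosed {k : Type u} [Field k] [IsAlgClosed k]
    (A L : Type u) [CommRing A] [Algebra k A] [IsReduced A] [Field L] [Algebra k L] :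
    IsReduced (L ⊗[k] A) := by
  haveI : IsReduced (A ⊗[k] L) := isReduced_tensor_of_fields L A fun L' _ _ => by
    haveI : IsDomain (L' ⊗[k] L) := GrpSchLib.isDomain_tensor_of_isAlgClosed
    infer_instance
  exact isReduced_of_injective (Algebra.TensorProduct.comm k L A) (Algebra.TensorProduct.comm k L A).injective

/-- A geometrically reduced algebra stays reduced over any field extension. -/
theorem isReduced_field_tensor {k : Type u} [Field k] (A L : Type u) [CommRing A] [Algebra k A]
    [Algebra.IsGeometricallyReduced k A] [Field L] [Algebra k L] : IsReduced (L ⊗[k] A) := by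
  let Ω := AlgebraicClosure L
  let kb := AlgebraicClosure k
  let ψ : kb →ₐ[k] Ω := IsAlgClosed.lift
  letI : Algebra kb Ω := ψ.toRingHom.toAlgebra
  haveI : IsScalarTower k kb Ω := IsScalarTower.of_algebraMap_eq fun x => (ψ.commutes x).symm
  haveI : IsReduced (kb ⊗[k] A) := (Algebra.isGeometricallyReduced_field_iff k A).mp inferInstance
  haveI : IsReduced (Ω ⊗[kb] (kb ⊗[k] A)) := isReduced_field_tensor_of_isAlgClosed _ Ω
  haveI : IsReduced (Ω ⊗[k] A) :=
    isReduced_of_injective (Algebra.TensorProduct.cancelBaseChange k kb Ω Ω A).symm
      (Algebra.TensorProduct.cancelBaseChange k kb Ω Ω A).symm.injective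
  exact isReduced_of_injective (Algebra.TensorProduct.map (IsScalarTower.toAlgHom k L Ω) (AlgHom.id k A))
    (Module.Flat.rTensor_preserves_injective_linearMap _ (RingHom.injective _))

/-- The tensor product of a geometrically reduced algebra with a reduced algebra is reduced. -/
theorem isReduced_tensor {k : Type u} [Field k] (A B : Type u) [CommRing A] [Algebra k A]
    [Algebra.IsGeometricallyReduced k A] [CommRing B] [Algebra k B] [IsReduced B] : IsReduced (B ⊗[k] A) :=
  isReduced_tensor_of_fields A B fun L _ _ => isReduced_field_tensor A L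

end Groth.Agent.FBaseLib
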