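import Groth.Agent.FBaseLib.Basic

/-!
# Products with geometrically reduced schemes
-/

set_option autoImplicit false

open CategoryTheory AlgebraicGeometry Limits TensorProduct

namespace Groth.Agent.FBaseLib

universe u

variable {k : Type u} [Field k]

theorem geometricallyReduced_comp_openImmersion {U X : Scheme.{u}} (j : U ⟶ X) [IsOpenImmersion j]
    (f : X ⟶ Spec (CommRingCat.of k)) [GeometricallyReduced f] : GeometricallyReduced (j ≫ f) := by
  refine ⟨geometrically_iff_of_isClosedUnderIsomorphisms.mpr fun K _ y => ?_⟩
  haveI : AlgebraicGeometry.IsReduced (pullback f y) :=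
    pullback_of_geometrically (GeometricallyReduced.geometrically_isReduced (f := f)) K y
  haveI : AlgebraicGeometry.IsReduced (pullback j (pullback.fst f y)) :=
    isReduced_of_isOpenImmersion (pullback.snd j (pullback.fst f y))
  exact isReduced_of_isOpenImmersion (pullbackRightPullbackFstIso f y j).inv

theorem isReduced_pullback_spec {A B : CommRingCat.{u}} (a : Spec A ⟶ Spec (CommRingCat.of k))
    (b : Spec B ⟶ Spec (CommRingCat.of k)) [GeometricallyReduced a] [AlgebraicGeometry.IsReduced (Spec B)] :
    AlgebraicGeometry.IsReduced (pullback a b) := by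
  obtain ⟨φ, rfl⟩ := Spec.map_surjective a
  obtain ⟨ψ, rfl⟩ := Spec.map_surjective b
  letI : Algebra k A := φ.hom.toAlgebra
  letI : Algebra k B := ψ.hom.toAlgebra
  haveI : _root_.IsReduced B := (affine_isReduced_iff B).mp inferInstance
  haveI : AlgebraicGeometry.IsReduced
      (pullback (Spec.map (CommRingCat.ofHom (algebraMap k (AlgebraicClosure k)))) (Spec.map φ)) :=
    pullback_of_geometrically' (GeometricallyReduced.geometrically_isReduced (f := Spec.map φ)) _ _
  haveI : AlgebraicGeometry.IsReduced (Spec (CommRingCat.of (AlgebraicClosure k ⊗[k] A))) :=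
    isReduced_of_isOpenImmersion (pullbackSpecIso k (AlgebraicClosure k) A).inv
  haveI : _root_.IsReduced (AlgebraicClosure k ⊗[k] A) :=
    (affine_isReduced_iff (CommRingCat.of (AlgebraicClosure k ⊗[k] A))).mp inferInstance
  haveI : Algebra.IsGeometricallyReduced k A := (Algebra.isGeometricallyReduced_field_iff k A).mpr inferInstance
  haveI : _root_.IsReduced (B ⊗[k] A) := isReduced_tensor A B
  haveI : _root_.IsReduced (A ⊗[k] B) :=
    isReduced_of_injective (Algebra.TensorProduct.comm k A B) (Algebra.TensorProduct.comm k A B).injective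
  exact isReduced_of_isOpenImmersion (pullbackSpecIso k A B).hom

/-- The product of a geometrically reduced scheme and a reduced scheme is reduced. -/
theorem isReduced_pullback {X S : Scheme.{u}} (f : X ⟶ Spec (CommRingCat.of k))
    (g : S ⟶ Spec (CommRingCat.of k)) [GeometricallyReduced f] [AlgebraicGeometry.IsReduced S] :
    AlgebraicGeometry.IsReduced (pullback f g) := by
  apply +allowSynthFailures @IsReduced.of_openCover
    (𝒰 := Scheme.Pullback.openCoverOfLeftRight X.affineCover S.affineCover f g)
  rintro ⟨i, j⟩
  haveI : AlgebraicGeometry.IsReduced (S.affineCover.X j) := isReduced_of_isOpenImmersion (S.affineCover.f j)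
  exact @isReduced_pullback_spec k _ _ _ (X.affineCover.f i ≫ f) (S.affineCover.f j ≫ g)
    (@geometricallyReduced_comp_openImmersion k _ _ _ (X.affineCover.f i) inferInstance f inferInstance) this

end Groth.Agent.FBaseLib
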