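import Groth.Agent.FBaseLib.Reduced
import Groth.Agent.GrpSchLib.GeomIrr
import Groth.Prelude.Def_FDesc
import Mathlib.AlgebraicGeometry.Geometrically.Integral
import Mathlib.AlgebraicGeometry.Geometrically.Connected
import Mathlib.AlgebraicGeometry.Morphisms.SchemeTheoreticallyDominant

/-!
# Base change over fields
-/

set_option autoImplicit false

open CategoryTheory AlgebraicGeometry Limits TensorProduct

namespace Groth.Agent.FBaseLib

universe u

open GrpSchLib (flat_spec_map_field surjective_spec_map_field)

theorem universallyOpen_spec_map_field {K L : Type u} [Field K] [Field L] (φ : K →+* L) :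
    UniversallyOpen (Spec.map (CommRingCat.ofHom φ)) :=
  inferInstance

theorem irreducibleSpace_of_surjective {Z W : Scheme.{u}} (q : Z ⟶ W) [Surjective q] [IrreducibleSpace Z] :
    IrreducibleSpace W := by
  rw [irreducibleSpace_def, Set.top_eq_univ, ← q.surjective.range_eq, ← Set.image_univ]
  exact (IrreducibleSpace.isIrreducible_univ _).image _ q.continuous.continuousOn

theorem connectedSpace_of_surjective {Z W : Scheme.{u}} (q : Z ⟶ W) [Surjective q] [ConnectedSpace Z] :
    ConnectedSpace W :=
  q.surjective.connectedSpace q.continuous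

theorem isReduced_of_flat_surjective {Z W : Scheme.{u}} (q : Z ⟶ W) [Flat q] [Surjective q]
    [AlgebraicGeometry.IsReduced Z] : AlgebraicGeometry.IsReduced W := by
  haveI : ∀ w, _root_.IsReduced (W.presheaf.stalk w) := fun w => by
    obtain ⟨z, rfl⟩ := q.surjective w
    letI := (q.stalkMap z).hom.toAlgebra
    haveI : Module.FaithfullyFlat (W.presheaf.stalk (q.base z)) (Z.presheaf.stalk z) :=
      @Module.FaithfullyFlat.of_flat_of_isLocalHom _ _ _ _ _ _ _ (Flat.stalkMap q z) (q.toLRSHom.prop z)
    exact isReduced_of_injective _ (FaithfulSMul.algebraMap_injective (W.presheaf.stalk (q.base z)) (Z.presheaf.stalk z))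
  exact isReduced_of_isReduced_stalk W

/-- `geometrically P` can be checked after a surjective base change. -/
theorem geometrically_of_surjective {P : ObjectProperty Scheme.{u}} [P.IsClosedUnderIsomorphisms]
    (hP : ∀ {Z W : Scheme.{u}} (q : Z ⟶ W) [Flat q] [Surjective q], P Z → P W)
    {X Y Y' : Scheme.{u}} (f : X ⟶ Y) (g : Y' ⟶ Y) [Surjective g]
    (h : geometrically P (pullback.snd f g)) : geometrically P f := by
  rw [geometrically_iff_of_isClosedUnderIsomorphisms]
  intro K _ y
  haveI : Surjective (pullback.fst y g) := MorphismProperty.pullback_fst _ _ inferInstance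
  obtain ⟨w, -⟩ := (pullback.fst y g).surjective (IsLocalRing.closedPoint K)
  obtain ⟨φ, hφ⟩ := Spec.map_surjective ((pullback y g).fromSpecResidueField w ≫ pullback.fst y g)
  let L : Type u := (pullback y g).residueField w
  let s : Spec (CommRingCat.of L) ⟶ Spec (CommRingCat.of K) := Spec.map φ
  let t : Spec (CommRingCat.of L) ⟶ Y' := (pullback y g).fromSpecResidueField w ≫ pullback.snd y g
  have hst : t ≫ g = s ≫ y := by
    simp only [t, s, hφ, Category.assoc]
    rw [pullback.condition]
  haveI : Flat s := flat_spec_map_field φ.hom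
  haveI : Surjective s := surjective_spec_map_field φ.hom
  have h1 : P (pullback (pullback.snd f g) t) := pullback_of_geometrically h _ t
  haveI : Surjective (pullback.fst (pullback.snd f y) s) := MorphismProperty.pullback_fst _ _ inferInstance
  exact hP (pullback.fst (pullback.snd f y) s) (P.prop_of_iso
    (pullbackLeftPullbackSndIso f g t ≪≫ pullback.congrHom rfl hst ≪≫ (pullbackLeftPullbackSndIso f y s).symm) h1)

variable {k : Type u} [Field k] {X : Scheme.{u}} (f : X ⟶ Spec (CommRingCat.of k))

theorem surjective_bcπ (K : Type u) [Field K] [Algebra k K] : Surjective (FBase.bcπ f K) :=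
  haveI := surjective_spec_map_field (algebraMap k K)
  MorphismProperty.pullback_fst _ _ inferInstance

theorem isOpenMap_bcπ (K : Type u) [Field K] [Algebra k K] : IsOpenMap (FBase.bcπ f K).base :=
  haveI : UniversallyOpen (FBase.bcπ f K) := MorphismProperty.pullback_fst _ _ inferInstance
  (FBase.bcπ f K).isOpenMap

theorem isIrreducible_preimage_bcπ [IsAlgClosed k] (K : Type u) [Field K] [Algebra k K] (x : X) :
    IsIrreducible ((FBase.bcπ f K).base ⁻¹' {x}) := by
  let ι := X.fromSpecResidueField x
  let p : FBase.bc f K ⟶ X := FBase.bcπ f K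
  have hr : p.base ⁻¹' {x} = Set.range (pullback.snd ι p).base := by
    rw [Scheme.Pullback.range_snd, Scheme.range_fromSpecResidueField]
  rw [hr, ← Set.image_univ]
  haveI h1 : IrreducibleSpace ↥(pullback (ι ≫ f) (Spec.map (CommRingCat.ofHom (algebraMap k K)))) :=
    GrpSchLib.irreducibleSpace_pullback_of_isAlgClosed (ι ≫ f) (algebraMap k K)
  haveI : IrreducibleSpace ↥(pullback ι p) :=
    (pullbackRightPullbackFstIso f (Spec.map (CommRingCat.ofHom (algebraMap k K))) ι).hom.homeomorph.irreducibleSpace_iff.mpr h1
  exact (IrreducibleSpace.isIrreducible_univ _).image _ (pullback.snd ι p).continuous.continuousOn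

theorem isIrreducible_preimage_bcπ_set [IsAlgClosed k] (K : Type u) [Field K] [Algebra k K] {Z : Set X}
    (hZ : IsIrreducible Z) : IsIrreducible ((FBase.bcπ f K).base ⁻¹' Z) := by
  refine hZ.preimage_of_isPreirreducible_fiber _ (isOpenMap_bcπ f K)
    (fun x => (isIrreducible_preimage_bcπ f K x).isPreirreducible) ?_
  rw [Set.range_eq_univ.mpr (surjective_bcπ f K).surj, Set.inter_univ]
  exact hZ.nonempty

theorem isConnected_preimage_bcπ [IsAlgClosed k] (K : Type u) [Field K] [Algebra k K] {Z : Set X}
    (hZ : _root_.IsConnected Z) : _root_.IsConnected ((FBase.bcπ f K).base ⁻¹' Z) := by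
  let p : FBase.bc f K ⟶ X := FBase.bcπ f K
  let q : ↥(p.base ⁻¹' Z) → ↥Z := Set.restrictPreimage Z p.base
  have hopen : IsOpenMap q := (isOpenMap_bcπ f K).restrictPreimage Z
  have hsurj : Function.Surjective q := Set.restrictPreimage_surjective Z (surjective_bcπ f K).surj
  have hq : Topology.IsQuotientMap q :=
    hopen.isQuotientMap (p.continuous.restrictPreimage) hsurj
  haveI : ConnectedSpace Z := isConnected_iff_connectedSpace.mp hZ
  have hfib : ∀ z : Z, _root_.IsConnected (q ⁻¹' {z}) := fun z => by
    have he : q ⁻¹' {z} = Subtype.val ⁻¹' (p.base ⁻¹' {z.1}) := by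
      ext w; simp [q, Subtype.ext_iff]
    rw [he]
    refine ⟨?_, ?_⟩
    · obtain ⟨w, hw⟩ := (isIrreducible_preimage_bcπ f K z.1).nonempty
      exact ⟨⟨w, by simp only [Set.mem_preimage, Set.mem_singleton_iff] at hw ⊢; exact hw ▸ z.2⟩, hw⟩
    · rw [← Topology.IsInducing.subtypeVal.isPreconnected_image, Subtype.image_preimage_coe,
        Set.inter_eq_self_of_subset_right]
      · exact (isIrreducible_preimage_bcπ f K z.1).isConnected.isPreconnected
      · intro w hw
        show p.base w ∈ Z
        rw [show p.base w = z.1 from hw]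
        exact z.2
  have h := hq.isCoinducing.isConnected_preimage_of_isClosed hfib isClosed_univ isConnected_univ
  have h2 := h.image _ (continuous_subtype_val.continuousOn)
  rw [Set.preimage_univ, Set.image_univ, Subtype.range_val] at h2
  exact h2

end Groth.Agent.FBaseLib
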