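import Groth.Agent.FBaseLib.Point

/-!
# Points of base changes along a compositum
-/

set_option autoImplicit false

open CategoryTheory AlgebraicGeometry Limits TensorProduct

namespace Groth.Agent.FBaseLib

universe u

variable {k : Type u} [Field k] {X : Scheme.{u}} (f : X ⟶ Spec (CommRingCat.of k))

/-- `(X ⊗ K) ⊗_K M ≅ X ⊗ M`. -/
noncomputable def bcTower (K : Type u) [Field K] [Algebra k K] (M : Type u) [Field M] [Algebra K M] [Algebra k M]
    [IsScalarTower k K M] : FBase.bc (FBase.bcStr f K) M ≅ FBase.bc f M :=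
  pullbackLeftPullbackSndIso f (Spec.map (CommRingCat.ofHom (algebraMap k K)))
      (Spec.map (CommRingCat.ofHom (algebraMap K M))) ≪≫
    pullback.congrHom rfl (by
      rw [← Spec.map_comp, ← CommRingCat.ofHom_comp, ← IsScalarTower.algebraMap_eq])

theorem bcTower_hom_fst (K : Type u) [Field K] [Algebra k K] (M : Type u) [Field M] [Algebra K M] [Algebra k M]
    [IsScalarTower k K M] :
    (bcTower f K M).hom ≫ FBase.bcπ f M = FBase.bcπ (FBase.bcStr f K) M ≫ FBase.bcπ f K := by
  simp only [bcTower, FBase.bcπ, FBase.bc, Iso.trans_hom, Category.assoc, pullback.congrHom_hom]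
  erw [pullback.lift_fst]
  rw [Category.comp_id]
  exact pullbackLeftPullbackSndIso_hom_fst _ _ _

/-- The map `X ⊗ M ⟶ X ⊗ L` for an extension `L → M`. -/
noncomputable def bcMap (L M : Type u) [Field L] [Field M] [Algebra k L] [Algebra k M] [Algebra L M]
    [IsScalarTower k L M] : FBase.bc f M ⟶ FBase.bc f L :=
  (bcTower f L M).inv ≫ FBase.bcπ (FBase.bcStr f L) M

theorem bcMap_fst (L M : Type u) [Field L] [Field M] [Algebra k L] [Algebra k M] [Algebra L M]
    [IsScalarTower k L M] : bcMap f L M ≫ FBase.bcπ f L = FBase.bcπ f M := by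
  rw [bcMap, Category.assoc, ← bcTower_hom_fst, Iso.inv_hom_id_assoc]

theorem bcMap_snd (L M : Type u) [Field L] [Field M] [Algebra k L] [Algebra k M] [Algebra L M]
    [IsScalarTower k L M] :
    bcMap f L M ≫ FBase.bcStr f L = FBase.bcStr f M ≫ Spec.map (CommRingCat.ofHom (algebraMap L M)) := by
  have e : (bcTower f L M).hom ≫ FBase.bcStr f M = FBase.bcStr (FBase.bcStr f L) M := by
    simp only [bcTower, FBase.bcStr, FBase.bc, Iso.trans_hom, Category.assoc, pullback.congrHom_hom]
    erw [pullback.lift_snd]
    rw [Category.comp_id]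
    exact pullbackLeftPullbackSndIso_hom_snd _ _ _
  rw [bcMap, Category.assoc]
  erw [pullback.condition]
  erw [← Category.assoc, (Iso.inv_comp_eq _).mpr e.symm]

instance (L M : Type u) [Field L] [Field M] [Algebra k L] [Algebra k M] [Algebra L M]
    [IsScalarTower k L M] : Flat (bcMap f L M) := by
  haveI := GrpSchLib.flat_spec_map_field (algebraMap L M)
  haveI : Flat (FBase.bcπ (FBase.bcStr f L) M) := MorphismProperty.pullback_fst _ _ inferInstance
  unfold bcMap
  infer_instance

instance (L M : Type u) [Field L] [Field M] [Algebra k L] [Algebra k M] [Algebra L M]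
    [IsScalarTower k L M] : Surjective (bcMap f L M) := by
  haveI := surjective_bcπ (FBase.bcStr f L) M
  unfold bcMap
  infer_instance

instance (L M : Type u) [Field L] [Field M] [Algebra k L] [Algebra k M] [Algebra L M]
    [IsScalarTower k L M] : UniversallyOpen (bcMap f L M) := by
  haveI : UniversallyOpen (FBase.bcπ (FBase.bcStr f L) M) := MorphismProperty.pullback_fst _ _ inferInstance
  unfold bcMap
  infer_instance

/-- Two points of base changes over the same point are dominated by a point over a compositum. -/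
theorem exists_compositum (K L : Type u) [Field K] [Algebra k K] [Field L] [Algebra k L]
    (x' : ↥(FBase.bc f K)) (w : ↥(FBase.bc f L)) (h : (FBase.bcπ f K).base x' = (FBase.bcπ f L).base w) :
    ∃ (M : Type u) (_ : Field M) (_ : Algebra k M) (_ : Algebra K M) (_ : Algebra L M)
      (_ : IsScalarTower k K M) (_ : IsScalarTower k L M) (z : ↥(FBase.bc f M)),
      (bcMap f K M).base z = x' ∧ (bcMap f L M).base z = w := by
  let πK : FBase.bc f K ⟶ X := FBase.bcπ f K
  let πL : FBase.bc f L ⟶ X := FBase.bcπ f L
  obtain ⟨z₀, hz1, hz2⟩ := Scheme.Pullback.exists_preimage_pullback (f := πK) (g := πL) x' w h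
  let P := pullback πK πL
  let ζ := P.fromSpecResidueField z₀
  obtain ⟨a, ha⟩ := Spec.map_surjective (ζ ≫ pullback.fst πK πL ≫ FBase.bcStr f K)
  obtain ⟨b, hb⟩ := Spec.map_surjective (ζ ≫ pullback.snd πK πL ≫ FBase.bcStr f L)
  let M : Type u := P.residueField z₀
  letI : Algebra K M := a.hom.toAlgebra
  letI : Algebra L M := b.hom.toAlgebra
  letI : Algebra k M := (a.hom.comp (algebraMap k K)).toAlgebra
  haveI : IsScalarTower k K M := IsScalarTower.of_algebraMap_eq fun _ => rfl
  have hab : CommRingCat.ofHom (algebraMap k L) ≫ b = CommRingCat.ofHom (algebraMap k K) ≫ a := by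
    apply Spec.map_injective
    have e1 : FBase.bcStr f K ≫ Spec.map (CommRingCat.ofHom (algebraMap k K)) = πK ≫ f := pullback.condition.symm
    have e2 : FBase.bcStr f L ≫ Spec.map (CommRingCat.ofHom (algebraMap k L)) = πL ≫ f := pullback.condition.symm
    rw [Spec.map_comp, Spec.map_comp, ha, hb, Category.assoc, Category.assoc, Category.assoc, Category.assoc,
      e1, e2, pullback.condition_assoc]
  haveI : IsScalarTower k L M := IsScalarTower.of_algebraMap_eq fun x => (congr($(hab).hom x)).symm
  let z : Spec (CommRingCat.of M) ⟶ FBase.bc f M :=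
    pullback.lift (ζ ≫ pullback.fst πK πL ≫ πK) (𝟙 _) (by
      rw [Category.id_comp]
      have e1 : FBase.bcStr f K ≫ Spec.map (CommRingCat.ofHom (algebraMap k K)) = πK ≫ f := pullback.condition.symm
      change _ = Spec.map (CommRingCat.ofHom (algebraMap k K) ≫ a)
      rw [Spec.map_comp, ha, Category.assoc, Category.assoc, Category.assoc, Category.assoc, e1])
  have hK : z ≫ bcMap f K M = ζ ≫ pullback.fst πK πL := by
    apply pullback.hom_ext
    · erw [Category.assoc, bcMap_fst, pullback.lift_fst, Category.assoc]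
    · erw [Category.assoc, bcMap_snd, ← Category.assoc, pullback.lift_snd, Category.id_comp, Category.assoc]
      exact ha
  have hL : z ≫ bcMap f L M = ζ ≫ pullback.snd πK πL := by
    apply pullback.hom_ext
    · have e : z ≫ bcMap f L M ≫ πL = ζ ≫ pullback.snd πK πL ≫ πL := by
        erw [bcMap_fst, pullback.lift_fst]
        rw [pullback.condition]
      exact (Category.assoc _ _ _).trans (e.trans (Category.assoc _ _ _).symm)
    · erw [Category.assoc, bcMap_snd, ← Category.assoc, pullback.lift_snd, Category.id_comp, Category.assoc]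
      exact hb
  refine ⟨M, inferInstance, inferInstance, inferInstance, inferInstance, inferInstance, inferInstance,
    z.base (IsLocalRing.closedPoint M), ?_, ?_⟩
  · rw [← Scheme.Hom.comp_apply, hK, Scheme.Hom.comp_apply]
    exact (congrArg _ (Scheme.fromSpecResidueField_apply _ _)).trans hz1
  · rw [← Scheme.Hom.comp_apply, hL, Scheme.Hom.comp_apply]
    exact (congrArg _ (Scheme.fromSpecResidueField_apply _ _)).trans hz2

theorem stalk_isDomain_of_flat {Z W : Scheme.{u}} (q : Z ⟶ W) [Flat q] (z : Z)
    (h : IsDomain (Z.presheaf.stalk z)) : IsDomain (W.presheaf.stalk (q.base z)) := by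
  letI := (q.stalkMap z).hom.toAlgebra
  haveI : Module.FaithfullyFlat (W.presheaf.stalk (q.base z)) (Z.presheaf.stalk z) :=
    @Module.FaithfullyFlat.of_flat_of_isLocalHom _ _ _ _ _ _ _ (Flat.stalkMap q z) (q.toLRSHom.prop z)
  exact (FaithfulSMul.algebraMap_injective (W.presheaf.stalk (q.base z)) (Z.presheaf.stalk z)).isDomain

end Groth.Agent.FBaseLib
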