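import Groth.Agent.FBaseLib.Compositum
import Groth.Agent.FDescent.MaxPoint
import Mathlib.Topology.Connected.TotallyDisconnected
import Mathlib.Topology.Homeomorph.Lemmas
import Mathlib.SetTheory.Cardinal.Basic

/-!
# Components of base changes
-/

set_option autoImplicit false

open CategoryTheory AlgebraicGeometry Limits TensorProduct

namespace Groth.Agent.FBaseLib

universe u

variable {k : Type u} [Field k] {X : Scheme.{u}} (f : X ⟶ Spec (CommRingCat.of k))

/-- A compositum of two extensions. -/
theorem exists_field_compositum (K Ω : Type u) [Field K] [Algebra k K] [Field Ω] [Algebra k Ω] :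
    ∃ (M : Type u) (_ : Field M) (_ : Algebra k M) (_ : Algebra K M) (_ : Algebra Ω M),
      IsScalarTower k K M ∧ IsScalarTower k Ω M := by
  haveI : Nontrivial (K ⊗[k] Ω) :=
    (Module.FaithfullyFlat.nontrivial_tensorProduct_iff_right (R := k) (M := K) (N := Ω)).mpr inferInstance
  obtain ⟨m, hm⟩ := Ideal.exists_maximal (K ⊗[k] Ω)
  let M : Type u := (K ⊗[k] Ω) ⧸ m
  letI : Field M := Ideal.Quotient.field m
  letI : Algebra K M := ((Ideal.Quotient.mk m).comp Algebra.TensorProduct.includeLeftRingHom).toAlgebra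
  letI : Algebra Ω M := ((Ideal.Quotient.mk m).comp Algebra.TensorProduct.includeRight.toRingHom).toAlgebra
  letI : Algebra k M := ((algebraMap K M).comp (algebraMap k K)).toAlgebra
  refine ⟨M, inferInstance, inferInstance, inferInstance, inferInstance, IsScalarTower.of_algebraMap_eq fun _ => rfl,
    IsScalarTower.of_algebraMap_eq fun x => ?_⟩
  change Ideal.Quotient.mk m (algebraMap k K x ⊗ₜ[k] 1) = Ideal.Quotient.mk m (1 ⊗ₜ[k] algebraMap k Ω x)
  rw [Algebra.algebraMap_eq_smul_one, Algebra.algebraMap_eq_smul_one, TensorProduct.smul_tmul]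

theorem mk_connectedComponents_le (K Ω : Type u) [Field K] [Algebra k K] [Field Ω] [Algebra k Ω]
    [IsAlgClosed Ω] :
    Cardinal.mk (_root_.ConnectedComponents ↥(FBase.bc f K)) ≤
      Cardinal.mk (_root_.ConnectedComponents ↥(FBase.bc f Ω)) := by
  obtain ⟨M, iM, ikM, iKM, iΩM, t1, t2⟩ := exists_field_compositum (k := k) K Ω
  let q : FBase.bc (FBase.bcStr f Ω) M ⟶ FBase.bc f Ω := FBase.bcπ (FBase.bcStr f Ω) M
  let r : FBase.bc (FBase.bcStr f Ω) M ⟶ FBase.bc f K := (bcTower f Ω M).hom ≫ bcMap f K M
  have hq : Topology.IsQuotientMap q.base :=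
    (isOpenMap_bcπ (FBase.bcStr f Ω) M).isQuotientMap q.continuous (surjective_bcπ (FBase.bcStr f Ω) M).surj
  have hfib : ∀ y, _root_.IsConnected (q.base ⁻¹' {y}) := fun y =>
    (isIrreducible_preimage_bcπ (FBase.bcStr f Ω) M y).isConnected
  have e := (hq.isCoinducing.connectedComponentsHomeomorph hfib).toEquiv
  have hr : Function.Surjective r.continuous.connectedComponentsMap := fun c => by
    obtain ⟨y, rfl⟩ := _root_.ConnectedComponents.surjective_coe c
    obtain ⟨z, rfl⟩ := r.surjective y
    exact ⟨_root_.ConnectedComponents.mk z, rfl⟩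
  exact (Cardinal.mk_le_of_surjective hr).trans (Cardinal.mk_congr e).le

theorem mk_irreducibleComponents_le (K Ω : Type u) [Field K] [Algebra k K] [Field Ω] [Algebra k Ω]
    [IsAlgClosed Ω] :
    Cardinal.mk ↥(irreducibleComponents ↥(FBase.bc f K)) ≤
      Cardinal.mk ↥(irreducibleComponents ↥(FBase.bc f Ω)) := by
  obtain ⟨M, iM, ikM, iKM, iΩM, t1, t2⟩ := exists_field_compositum (k := k) K Ω
  let q : FBase.bc (FBase.bcStr f Ω) M ⟶ FBase.bc f Ω := FBase.bcπ (FBase.bcStr f Ω) M
  let r : FBase.bc (FBase.bcStr f Ω) M ⟶ FBase.bc f K := (bcTower f Ω M).hom ≫ bcMap f K M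
  have e := (irreducibleComponentsEquivOfIsPreirreducibleFiber q.base q.continuous
    (isOpenMap_bcπ (FBase.bcStr f Ω) M)
    (fun y => (isIrreducible_preimage_bcπ (FBase.bcStr f Ω) M y).isPreirreducible)
    (surjective_bcπ (FBase.bcStr f Ω) M).surj).toEquiv
  have hgen : GeneralizingMap r.base := Flat.generalizingMap r
  have hmem : ∀ Z : irreducibleComponents ↥(FBase.bc (FBase.bcStr f Ω) M),
      closure (r.base '' Z.1) ∈ irreducibleComponents ↥(FBase.bc f K) := by
    rintro ⟨Z, hZ⟩
    obtain ⟨z, rfl, hz⟩ := FDescent.exists_maximal_of_mem_irreducibleComponents hZ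
    change closure (r.base '' closure {z}) ∈ _
    rw [closure_image_closure r.continuous, Set.image_singleton]
    refine FDescent.closure_mem_irreducibleComponents fun y hy => ?_
    obtain ⟨z', hz', rfl⟩ := hgen hy
    rw [hz z' hz']
  let F : irreducibleComponents ↥(FBase.bc (FBase.bcStr f Ω) M) → irreducibleComponents ↥(FBase.bc f K) :=
    fun Z => ⟨_, hmem Z⟩
  have hF : Function.Surjective F := by
    rintro ⟨W, hW⟩
    obtain ⟨y, rfl, hy⟩ := FDescent.exists_maximal_of_mem_irreducibleComponents hW
    obtain ⟨z, rfl⟩ := r.surjective y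
    obtain ⟨ξ, hξ, -⟩ := FDescent.exists_maximal_of_mem_irreducibleComponents
      (irreducibleComponent_mem_irreducibleComponents z)
    have hξz : ξ ⤳ z := specializes_iff_mem_closure.mpr (hξ ▸ mem_irreducibleComponent)
    refine ⟨⟨irreducibleComponent z, irreducibleComponent_mem_irreducibleComponents z⟩, Subtype.ext ?_⟩
    change closure (r.base '' irreducibleComponent z) = closure {r.base z}
    rw [hξ, closure_image_closure r.continuous, Set.image_singleton, hy _ (hξz.map r.continuous)]
  exact (Cardinal.mk_le_of_surjective hF).trans (Cardinal.mk_congr e).ge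

end Groth.Agent.FBaseLib
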