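import Mathlib.RingTheory.TensorProduct.Free
import Mathlib.RingTheory.Spectrum.Prime.Homeomorph
import Mathlib.FieldTheory.PurelyInseparable.PerfectClosure
import Mathlib.RingTheory.Localization.AtPrime.Basic
import Mathlib.RingTheory.IntegralClosure.IsIntegralClosure.Basic
import Mathlib.RingTheory.TensorProduct.IncludeLeftSubRight

/-! # Reducedness at a point of a base change to a perfect field -/

universe u

open TensorProduct

namespace Groth.Agent.FBaseLib

theorem isReduced_of_point {K C L D : Type u} [Field K] [CommRing C] [IsLocalRing C] [Algebra K C]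
    [Field L] [Algebra K L] [CommRing D] (e : C ⊗[K] L ≃+* D) (q : Ideal D) [q.IsPrime]
    (hq : ∀ c, c ∈ IsLocalRing.maximalIdeal C → e (c ⊗ₜ 1) ∈ q)
    (h : IsReduced (Localization.AtPrime q)) : IsReduced C := by
  refine ⟨fun x hx => ?_⟩
  let b := Algebra.TensorProduct.basis C (Module.Free.chooseBasis K L)
  have hx' : algebraMap D (Localization.AtPrime q) (e (x ⊗ₜ 1)) = 0 :=
    (((hx.map (algebraMap C (C ⊗[K] L))).map e.toRingHom).map
      (algebraMap D (Localization.AtPrime q))).eq_zero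
  obtain ⟨s, hs⟩ := (IsLocalization.map_eq_zero_iff q.primeCompl _ _).1 hx'
  let y := e.symm s
  have hxy : x • y = 0 := e.injective (by
    rw [map_zero, Algebra.smul_def, map_mul, Algebra.TensorProduct.algebraMap_apply, Algebra.algebraMap_self,
      RingHom.id_apply, e.apply_symm_apply, mul_comm]
    exact hs)
  by_contra hx0
  apply s.2
  show (s : D) ∈ q
  rw [← e.apply_symm_apply (s : D)]
  change e y ∈ q
  have hco : ∀ i, b.repr y i ∈ IsLocalRing.maximalIdeal C := fun i => by
    by_contra hu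
    rw [IsLocalRing.mem_maximalIdeal, mem_nonunits_iff, not_not] at hu
    have : x * b.repr y i = 0 := by
      have := congrArg (fun z => b.repr z i) hxy
      simpa using this
    exact hx0 (hu.mul_left_eq_zero.1 this)
  rw [← b.linearCombination_repr y, Finsupp.linearCombination_apply, Finsupp.sum, map_sum]
  refine q.sum_mem fun i _ => ?_
  rw [Algebra.smul_def, map_mul, Algebra.TensorProduct.algebraMap_apply, Algebra.algebraMap_self, RingHom.id_apply]
  exact q.mul_mem_right _ (hq _ (hco i))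

variable {k O K : Type u} [Field k] [CommRing O] [IsLocalRing O] [Algebra k O] [Field K] [Algebra k K]
  [IsPurelyInseparable k K]

theorem isLocalRing_tensor_purelyInseparable : IsLocalRing (O ⊗[k] K) := by
  have hh := PrimeSpectrum.isHomeomorph_comap_of_isPurelyInseparable k K O
  obtain ⟨P, hP⟩ := hh.surjective ⟨IsLocalRing.maximalIdeal O, inferInstance⟩
  haveI : Algebra.IsIntegral O (O ⊗[k] K) := inferInstance
  haveI hPm : P.asIdeal.IsMaximal := Ideal.isMaximal_of_isIntegral_of_isMaximal_comap (R := O) P.asIdeal (by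
    rw [show P.asIdeal.comap (algebraMap O (O ⊗[k] K)) = IsLocalRing.maximalIdeal O from congrArg PrimeSpectrum.asIdeal hP]
    infer_instance)
  refine IsLocalRing.of_unique_max_ideal ⟨P.asIdeal, hPm, fun M hM => ?_⟩
  refine congrArg PrimeSpectrum.asIdeal (hh.injective (a₁ := (⟨M, hM.isPrime⟩ : PrimeSpectrum (O ⊗[k] K))) ?_)
  rw [hP]
  exact PrimeSpectrum.ext (IsLocalRing.eq_maximalIdeal (Ideal.isMaximal_comap_of_isIntegral_of_isMaximal (R := O) M))

theorem isReduced_tensor_purelyInseparable {P Ω : Type u} [Field P] [Algebra k P] [IsPurelyInseparable k P]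
    [Field Ω] [Algebra k Ω] [Algebra P Ω] [IsScalarTower k P Ω] (q : Ideal (O ⊗[k] Ω)) [q.IsPrime]
    (hq : q.comap (algebraMap O (O ⊗[k] Ω)) = IsLocalRing.maximalIdeal O)
    (h : IsReduced (Localization.AtPrime q)) : IsReduced (O ⊗[k] P) := by
  haveI : IsLocalRing (O ⊗[k] P) := isLocalRing_tensor_purelyInseparable
  let σ := Algebra.TensorProduct.comm k O P
  haveI : IsLocalRing (P ⊗[k] O) := σ.toRingEquiv.isLocalRing
  let e : (P ⊗[k] O) ⊗[P] Ω ≃+* O ⊗[k] Ω :=
    (Algebra.TensorProduct.comm P (P ⊗[k] O) Ω).toRingEquiv.trans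
      ((Algebra.TensorProduct.cancelBaseChange k P Ω Ω O).toRingEquiv.trans
        (Algebra.TensorProduct.comm k Ω O).toRingEquiv)
  haveI : IsReduced (P ⊗[k] O) := by
    refine isReduced_of_point e q (fun c hc => ?_) h
    let φ : P ⊗[k] O →+* O ⊗[k] Ω := e.toRingHom.comp (algebraMap (P ⊗[k] O) ((P ⊗[k] O) ⊗[P] Ω))
    change c ∈ q.comap φ
    suffices heq : q.comap φ = IsLocalRing.maximalIdeal (P ⊗[k] O) by rwa [heq]
    have hcomp : ∀ o : O, φ (σ (algebraMap O (O ⊗[k] P) o)) = algebraMap O (O ⊗[k] Ω) o := fun o => by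
      show e ((σ (o ⊗ₜ[k] (1 : P))) ⊗ₜ[P] (1 : Ω)) = o ⊗ₜ[k] (1 : Ω)
      simp [σ, e]
    have hh := PrimeSpectrum.isHomeomorph_comap_of_isPurelyInseparable k P O
    haveI : Algebra.IsIntegral O (O ⊗[k] P) := inferInstance
    have h1 : (⟨(q.comap φ).comap σ.toRingEquiv.toRingHom, inferInstance⟩ : PrimeSpectrum (O ⊗[k] P)) =
        ⟨IsLocalRing.maximalIdeal _, inferInstance⟩ := hh.injective (PrimeSpectrum.ext (by
      refine (?_ : _ = IsLocalRing.maximalIdeal O).trans (IsLocalRing.eq_maximalIdeal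
        (Ideal.isMaximal_comap_of_isIntegral_of_isMaximal (R := O) (IsLocalRing.maximalIdeal (O ⊗[k] P)))).symm
      rw [← hq]
      ext o
      simp only [PrimeSpectrum.comap_asIdeal, Ideal.mem_comap]
      rw [← hcomp o]
      rfl))
    refine Ideal.comap_injective_of_surjective _ σ.toRingEquiv.surjective ?_
    refine (congrArg PrimeSpectrum.asIdeal h1).trans ?_
    haveI : IsLocalHom σ.toRingEquiv.toRingHom := ⟨fun a ha => (MulEquiv.isUnit_map σ.toRingEquiv.toMulEquiv).1 ha⟩
    exact (IsLocalRing.maximalIdeal_comap σ.toRingEquiv.toRingHom).symm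
  exact isReduced_of_injective σ σ.injective

/-- If `O ⊗ Ω` (`Ω` perfect) is reduced at a prime over the closed point, `O ⊗ k^perf` is reduced. -/
theorem isReduced_tensor_perfectClosure {Ω : Type u} [Field Ω] [Algebra k Ω] (q : Ideal (O ⊗[k] Ω)) [q.IsPrime]
    (hq : q.comap (algebraMap O (O ⊗[k] Ω)) = IsLocalRing.maximalIdeal O)
    (h : IsReduced (Localization.AtPrime q)) : IsReduced (O ⊗[k] perfectClosure k Ω) :=
  isReduced_tensor_purelyInseparable q hq h

end Groth.Agent.FBaseLib
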