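import Groth.Agent.AssLib.FlatFibre
import Groth.Agent.H23.RatExtend
import Groth.Agent.FBaseLib.PerfectPoint
import Groth.Prelude.Def_FDesc

/-! # Reducedness of base changes, localized at a point -/

universe u

open CategoryTheory Limits AlgebraicGeometry TensorProduct

namespace Groth.Agent.FBaseLib

theorem isReduced_iff_of_bijective {R S : CommRingCat.{u}} (φ : R ⟶ S) (h : Function.Bijective φ.hom) :
    _root_.IsReduced R ↔ _root_.IsReduced S := by
  let e := RingEquiv.ofBijective φ.hom h
  exact ⟨fun _ => isReduced_of_injective e.symm e.symm.injective, fun _ => isReduced_of_injective e e.injective⟩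

variable {k : Type u} [Field k] {X : Scheme.{u}} (f : X ⟶ Spec (CommRingCat.of k)) (x : X)

/-- Points of `X_K` over `x` correspond to primes of `O_x ⊗ K` over the closed point, with the same reducedness. -/
theorem exists_prime_stalk (K : Type u) [Field K] [Algebra k K] [Algebra k (X.presheaf.stalk x)]
    (ha : Spec.map (CommRingCat.ofHom (algebraMap k (X.presheaf.stalk x))) = X.fromSpecStalk x ≫ f)
    (x' : ↥(FBase.bc f K)) (hx' : (FBase.bcπ f K).base x' = x) :
    ∃ (q : Ideal (X.presheaf.stalk x ⊗[k] K)) (_ : q.IsPrime),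
      q.comap (algebraMap (X.presheaf.stalk x) (X.presheaf.stalk x ⊗[k] K)) =
        IsLocalRing.maximalIdeal (X.presheaf.stalk x) ∧
      (_root_.IsReduced (Localization.AtPrime q) ↔ _root_.IsReduced ((FBase.bc f K).presheaf.stalk x')) := by
  let j := X.fromSpecStalk x
  let g := Spec.map (CommRingCat.ofHom (algebraMap k K))
  haveI : Flat j := H23.RatExtend.flat_fromSpecStalk X x
  let m := pullback.snd j (pullback.fst f g)
  haveI : IsPreimmersion m := MorphismProperty.pullback_snd _ _ inferInstance
  haveI : Flat m := MorphismProperty.pullback_snd _ _ inferInstance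
  obtain ⟨w, hw1, hw2⟩ := Scheme.Pullback.exists_preimage_pullback
    (f := j) (g := pullback.fst f g) (IsLocalRing.closedPoint (X.presheaf.stalk x)) x'
    (X.fromSpecStalk_closedPoint.trans hx'.symm)
  let ψ : pullback j (pullback.fst f g) ≅ Spec (CommRingCat.of (X.presheaf.stalk x ⊗[k] K)) :=
    pullbackRightPullbackFstIso f g j ≪≫ pullback.congrHom ha.symm rfl ≪≫
      pullbackSpecIso k (X.presheaf.stalk x) K
  have hψ : ψ.hom ≫ Spec.map (CommRingCat.ofHom (algebraMap (X.presheaf.stalk x) (X.presheaf.stalk x ⊗[k] K))) =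
      pullback.fst j (pullback.fst f g) := by
    simp only [ψ, Iso.trans_hom, Category.assoc]
    rw [pullbackSpecIso_hom_fst', pullback.congrHom_hom]
    erw [pullback.lift_fst, Category.comp_id]
    rw [pullbackRightPullbackFstIso_hom_fst]
  refine ⟨(ψ.hom.base w).asIdeal, inferInstance, ?_, ?_⟩
  · have := congrArg (fun φ : _ ⟶ Spec (X.presheaf.stalk x) => (φ.base w).asIdeal) hψ
    refine this.trans ?_
    show ((pullback.fst j (pullback.fst f g)).base w).asIdeal = _
    rw [hw1]; rfl
  · rw [← hw2]
    refine Iff.trans ?_ (isReduced_iff_of_bijective (m.stalkMap w) (AssLib.bijective_stalkMap m w)).symm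
    refine Iff.trans ?_ (isReduced_iff_of_bijective (ψ.hom.stalkMap w) (ConcreteCategory.bijective_of_isIso _))
    exact (isReduced_iff_of_bijective (Spec.stalkIso _ (ψ.hom.base w)).hom (ConcreteCategory.bijective_of_isIso _)).symm

end Groth.Agent.FBaseLib
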