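import Groth.Agent.FBaseLib.Basic
import Mathlib.AlgebraicGeometry.StructureSheaf

/-!
# Local rings of base changes
-/

set_option autoImplicit false

open CategoryTheory AlgebraicGeometry Limits TensorProduct

namespace Groth.Agent.FBaseLib

universe u

variable {k : Type u} [Field k]

/-- A local ring of `A ⊗ K` over a domain local ring of `A` is a domain. -/
theorem isDomain_localization_tensor [IsAlgClosed k] {A S K L : Type u} [CommRing A] [Algebra k A]
    [Field K] [Algebra k K] [CommRing S] [Algebra A S] (p : Ideal A) [p.IsPrime] [IsLocalization.AtPrime S p]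
    [IsDomain S] [CommRing L] [Algebra (A ⊗[k] K) L] (q : Ideal (A ⊗[k] K)) [q.IsPrime]
    [IsLocalization.AtPrime L q] (hpq : q.comap Algebra.TensorProduct.includeLeftRingHom = p) : IsDomain L := by
  classical
  letI : Algebra k S := ((algebraMap A S).comp (algebraMap k A)).toAlgebra
  haveI : IsScalarTower k A S := IsScalarTower.of_algebraMap_eq fun _ => rfl
  haveI : IsDomain (S ⊗[k] K) := GrpSchLib.isDomain_tensor_of_isAlgClosed
  let T := A ⊗[k] K
  let θ : T →ₐ[k] S ⊗[k] K := Algebra.TensorProduct.map (IsScalarTower.toAlgHom k A S) (AlgHom.id k K)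
  have hker : ∀ y : T, θ y = 0 → ∃ t : A, t ∉ p ∧ (t ⊗ₜ (1 : K) : T) * y = 0 := by
    intro y hy
    let b := Module.Free.chooseBasis k K
    let BA := Algebra.TensorProduct.basis A b
    have h1 : ∀ (z : T) (i : _), (Algebra.TensorProduct.basis S b).repr (θ z) i = algebraMap A S (BA.repr z i) := by
      intro z i
      induction z using TensorProduct.induction_on with
      | zero => simp
      | tmul a c =>
        rw [show θ (a ⊗ₜ c) = algebraMap A S a ⊗ₜ c from Algebra.TensorProduct.map_tmul _ _ a c]
        rw [Algebra.TensorProduct.basis_repr_tmul, Algebra.TensorProduct.basis_repr_tmul]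
        simp [map_mul, Algebra.smul_def, IsScalarTower.algebraMap_apply k A S]
      | add y z hy hz => simp [hy, hz]
    choose t ht using fun i => (IsLocalization.map_eq_zero_iff p.primeCompl S (BA.repr y i)).mp
      (by rw [← h1, hy, map_zero, Finsupp.zero_apply])
    refine ⟨∏ i ∈ (BA.repr y).support, (t i : A), ?_, ?_⟩
    · intro h
      obtain ⟨i, -, hi⟩ := (Ideal.IsPrime.prod_mem_iff).mp h
      exact (t i).2 hi
    · have e : ((∏ i ∈ (BA.repr y).support, (t i : A)) ⊗ₜ (1 : K) : T) * y =
          (∏ i ∈ (BA.repr y).support, (t i : A)) • y := by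
        rw [Algebra.smul_def]
        rfl
      rw [e]
      apply BA.repr.injective
      ext i
      rw [map_smul, Finsupp.smul_apply, map_zero, Finsupp.zero_apply, smul_eq_mul]
      by_cases hi : i ∈ (BA.repr y).support
      · rw [← Finset.prod_erase_mul _ _ hi, mul_assoc, ht, mul_zero]
      · rw [Finsupp.notMem_support_iff.mp hi, mul_zero]
  haveI : Nontrivial L := IsLocalization.AtPrime.nontrivial L q
  haveI : NoZeroDivisors L := by
    refine ⟨fun {x y} hxy => ?_⟩
    obtain ⟨a, s, rfl⟩ := IsLocalization.exists_mk'_eq q.primeCompl x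
    obtain ⟨c, s', rfl⟩ := IsLocalization.exists_mk'_eq q.primeCompl y
    rw [← IsLocalization.mk'_mul, IsLocalization.mk'_eq_zero_iff] at hxy
    obtain ⟨u, hu⟩ := hxy
    have h0 : θ (u.1 * a) * θ c = 0 := by rw [← map_mul, mul_assoc, hu, map_zero]
    have hunit : ∀ t : A, t ∉ p → (t ⊗ₜ (1 : K) : T) ∈ q.primeCompl := fun t ht h => ht (hpq ▸ h)
    rcases mul_eq_zero.mp h0 with h | h
    · obtain ⟨t, htp, ht0⟩ := hker _ h
      left
      rw [IsLocalization.mk'_eq_zero_iff]
      exact ⟨⟨_, hunit t htp⟩ * u, by rw [Submonoid.coe_mul, mul_assoc]; exact ht0⟩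
    · obtain ⟨t, htp, ht0⟩ := hker _ h
      right
      rw [IsLocalization.mk'_eq_zero_iff]
      exact ⟨⟨_, hunit t htp⟩, ht0⟩
  exact NoZeroDivisors.to_isDomain L

theorem isDomain_stalk_iff_of_isOpenImmersion {U X : Scheme.{u}} (j : U ⟶ X) [IsOpenImmersion j] (z : U) :
    IsDomain (X.presheaf.stalk (j.base z)) ↔ IsDomain (U.presheaf.stalk z) :=
  MulEquiv.isDomain_iff (asIso (j.stalkMap z)).commRingCatIsoToRingEquiv.toMulEquiv

theorem isDomain_stalk_spec_iff (R : CommRingCat.{u}) (z : Spec R) :
    IsDomain ((Spec R).presheaf.stalk z) ↔ IsDomain (Localization.AtPrime z.asIdeal) :=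
  MulEquiv.isDomain_iff (Spec.stalkIso R z).commRingCatIsoToRingEquiv.toMulEquiv

/-- Over an algebraically closed field, local rings of a base change above a domain local ring are domains. -/
theorem isDomain_stalk_bc [IsAlgClosed k] {X : Scheme.{u}} (f : X ⟶ Spec (CommRingCat.of k))
    (K : Type u) [Field K] [Algebra k K] (x' : ↥(FBase.bc f K))
    (h : IsDomain (X.presheaf.stalk ((FBase.bcπ f K).base x'))) : IsDomain ((FBase.bc f K).presheaf.stalk x') := by
  let π : FBase.bc f K ⟶ X := FBase.bcπ f K
  obtain ⟨R, j, hj, ⟨p, hp⟩, -⟩ := Scheme.exists_affine_mem_range_and_range_subset (X := X) (x := π.base x') (U := ⊤) trivial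
  obtain ⟨φ, hφ⟩ := Spec.map_surjective (j ≫ f)
  letI : Algebra k R := φ.hom.toAlgebra
  let t := Spec.map (CommRingCat.ofHom (algebraMap k K))
  obtain ⟨v, -, hv⟩ := Scheme.Pullback.exists_preimage_pullback (f := j) (g := π) p x' hp
  let e₁ : pullback j π ≅ Spec (CommRingCat.of ((R : Type u) ⊗[k] K)) :=
    pullbackRightPullbackFstIso f t j ≪≫ pullback.congrHom hφ.symm rfl ≪≫ pullbackSpecIso k R K
  let ι : Spec (CommRingCat.of ((R : Type u) ⊗[k] K)) ⟶ FBase.bc f K := e₁.inv ≫ pullback.snd j π
  let q := e₁.hom.base v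
  have hq : ι.base q = x' := by
    rw [← Scheme.Hom.comp_apply, Iso.hom_inv_id_assoc, hv]
  have hι : ι ≫ π = Spec.map (CommRingCat.ofHom Algebra.TensorProduct.includeLeftRingHom) ≫ j := by
    rw [Category.assoc, ← pullback.condition, ← Category.assoc]
    congr 1
    simp only [e₁, Iso.trans_inv, Category.assoc, pullback.congrHom_inv]
    erw [pullbackRightPullbackFstIso_inv_fst, pullback.lift_fst]
    rw [Category.comp_id]
    exact pullbackSpecIso_inv_fst k R K
  have hjp : j.base ((Spec.map (CommRingCat.ofHom Algebra.TensorProduct.includeLeftRingHom)).base q) = π.base x' := by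
    rw [← Scheme.Hom.comp_apply, ← hι, Scheme.Hom.comp_apply, hq]
  rw [← hjp, isDomain_stalk_iff_of_isOpenImmersion, isDomain_stalk_spec_iff] at h
  rw [← hq, isDomain_stalk_iff_of_isOpenImmersion, isDomain_stalk_spec_iff]
  exact isDomain_localization_tensor (S := Localization.AtPrime
      ((Spec.map (CommRingCat.ofHom Algebra.TensorProduct.includeLeftRingHom)).base q).asIdeal)
    ((Spec.map (CommRingCat.ofHom Algebra.TensorProduct.includeLeftRingHom)).base q).asIdeal q.asIdeal rfl

end Groth.Agent.FBaseLib
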